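import Groth.Agent.L19.EtTri.Basic
import Groth.Agent.L01.NagataFiniteType
import Mathlib.RingTheory.Filtration
import Mathlib.FieldTheory.IsAlgClosed.AlgebraicClosure

/-! # Approximation of units by combinations of `p`-th powers -/

set_option autoImplicit false

universe u

open IsLocalRing Polynomial

namespace Groth.L19.EtTri

/-- An element which lies in `B^p[π]` up to every power of `π` gives a `p`-th root of `π`. -/
theorem exists_root_of_approx {p : ℕ} (hp : p.Prime) {B L M : Type u} [CommRing B] [IsDomain B]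
    [IsDiscreteValuationRing B] [Field L] [Algebra B L] [IsFractionRing B L] [Field M] [Algebra L M]
    [CharP L p] (hN : CAlg.IsN2 B) (hdeg : Module.finrank L M = p)
    {π : B} (hπ : Irreducible π) (u : Bˣ) (ρ : M)
    (hρ : ρ ^ p = algebraMap L M (algebraMap B L (π * (u : B))))
    (hli : LinearIndependent L (fun i : Fin p => ρ ^ (i : ℕ)))
    (happ : ∀ n, ∃ (b : Fin p → B) (r : B), (u : B) = ∑ i : Fin p, π ^ (i : ℕ) * b i ^ p + π ^ n * r) :
    ∃ δ : M, δ ^ p = algebraMap L M (algebraMap B L π) := by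
  classical
  haveI := Fact.mk hp
  haveI : FiniteDimensional L M := Module.finite_of_finrank_pos (hdeg ▸ hp.pos)
  let Ω := AlgebraicClosure M
  haveI : CharP Ω p := charP_of_injective_algebraMap (algebraMap L Ω).injective p
  set g : B →+* Ω := (algebraMap L Ω).comp (algebraMap B L) with hgdef
  obtain ⟨δ, hδ⟩ := IsAlgClosed.exists_pow_nat_eq (g π) hp.pos
  have hδ0 : δ ≠ 0 := fun h => by
    rw [h, zero_pow hp.pos.ne', eq_comm, hgdef, RingHom.comp_apply, map_eq_zero,
      map_eq_zero_iff _ (IsFractionRing.injective B L)] at hδ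
    exact hπ.ne_zero hδ
  set μ : Ω := algebraMap M Ω ρ * δ⁻¹ with hμ
  have hμp : μ ^ p = g (u : B) := by
    rw [hμ, mul_pow, ← map_pow, hρ, inv_pow, hδ, map_mul (algebraMap B L), map_mul, map_mul,
      ← IsScalarTower.algebraMap_apply L M Ω, ← IsScalarTower.algebraMap_apply L M Ω]
    show g π * g (u : B) * (g π)⁻¹ = g (u : B)
    rw [mul_comm (g π), mul_inv_cancel_right₀]
    exact hδ ▸ pow_ne_zero _ hδ0
  have hintL : ∀ (x : Ω) (b : B), x ^ p = g b → IsIntegral L x := fun x b h =>
    IsIntegral.of_pow hp.pos (by rw [h]; exact isIntegral_algebraMap)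
  haveI : FiniteDimensional L (IntermediateField.adjoin L ({δ, μ} : Set Ω)) :=
    IntermediateField.finiteDimensional_adjoin fun x hx => by
      rcases hx with rfl | rfl
      · exact hintL _ _ hδ
      · exact hintL _ _ hμp
  set D := IntermediateField.adjoin L ({δ, μ} : Set Ω)
  letI : Algebra B D := ((algebraMap L D).comp (algebraMap B L)).toAlgebra
  haveI : IsScalarTower B L D := IsScalarTower.of_algebraMap_eq fun _ => rfl
  haveI : IsLocalization (⊥ : Submonoid B) B := IsLocalization.self bot_le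
  haveI : Module.Finite B (integralClosure B D) :=
    Groth.L03.Japanese.isN2_localization_aux (⊥ : Submonoid B) B L D hN
  have hgD : ∀ b : B, ((algebraMap B D b : D) : Ω) = g b := fun b => by
    rw [IsScalarTower.algebraMap_apply B L D]; rfl
  let δD : D := ⟨δ, IntermediateField.subset_adjoin L _ (by simp)⟩
  let μD : D := ⟨μ, IntermediateField.subset_adjoin L _ (by simp)⟩
  have hδD : δD ^ p = algebraMap B D π := Subtype.ext (by rw [hgD]; exact hδ)
  have hμD : μD ^ p = algebraMap B D (u : B) := Subtype.ext (by rw [hgD]; exact hμp)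
  let δO : integralClosure B D := ⟨δD, IsIntegral.of_pow hp.pos (hδD ▸ isIntegral_algebraMap)⟩
  let μO : integralClosure B D := ⟨μD, IsIntegral.of_pow hp.pos (hμD ▸ isIntegral_algebraMap)⟩
  have hπD : algebraMap B D π ≠ 0 := fun h => by
    rw [h] at hδD
    exact hδ0 (congrArg Subtype.val (pow_eq_zero_iff'.mp hδD).1)
  let P : Submodule B (integralClosure B D) := Submodule.span B (Set.range fun i : Fin p => δO ^ (i : ℕ))
  have hstep : ∀ m : ℕ, ∃ y ∈ P, ∃ r : integralClosure B D, μO = y + π ^ m • r := by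
    intro m
    obtain ⟨b, r, hr⟩ := happ (p * m)
    set y : integralClosure B D := ∑ i, b i • δO ^ (i : ℕ) with hy
    refine ⟨y, Submodule.sum_mem _ fun i _ => Submodule.smul_mem _ _ (Submodule.subset_span ⟨i, rfl⟩), ?_⟩
    have hyD : (y : D) = ∑ i, algebraMap B D (b i) * δD ^ (i : ℕ) := by
      rw [hy]; push_cast; exact Finset.sum_congr rfl fun i _ => by rw [Algebra.smul_def]
    set x : D := (μD - (y : D)) / algebraMap B D π ^ m with hx
    haveI : CharP D p := charP_of_injective_algebraMap (algebraMap L D).injective p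
    have hxp : x ^ p = algebraMap B D r := by
      rw [hx, div_pow, sub_pow_char, hμD, hyD, sum_pow_char, ← pow_mul,
        show ∑ i : Fin p, (algebraMap B D (b i) * δD ^ (i : ℕ)) ^ p =
          algebraMap B D (∑ i : Fin p, π ^ (i : ℕ) * b i ^ p) by
          rw [map_sum]; exact Finset.sum_congr rfl fun i _ => by
            rw [mul_pow, ← pow_mul, mul_comm (i : ℕ), pow_mul, hδD, map_mul, map_pow, map_pow, mul_comm],
        ← map_sub, hr, add_sub_cancel_left, map_mul, map_pow, mul_comm m p,
        mul_div_cancel_left₀ _ (pow_ne_zero _ hπD)]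
    refine ⟨⟨x, IsIntegral.of_pow hp.pos (hxp ▸ isIntegral_algebraMap)⟩, Subtype.ext ?_⟩
    show μD = (y : D) + π ^ m • x
    rw [Algebra.smul_def, map_pow]
    show μD = (y : D) + algebraMap B D π ^ m * ((μD - (y : D)) / algebraMap B D π ^ m)
    rw [mul_div_cancel₀ _ (pow_ne_zero _ hπD)]
    ring
  have hμP : μO ∈ P := by
    have h := Ideal.iInf_pow_smul_eq_bot_of_isLocalRing (R := B) (M := (integralClosure B D) ⧸ P)
      (maximalIdeal B) (maximalIdeal.isMaximal B).ne_top
    rw [← Submodule.Quotient.mk_eq_zero, ← Submodule.mem_bot (R := B), ← h, Submodule.mem_iInf]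
    intro m
    obtain ⟨y, hy, r, hr⟩ := hstep m
    rw [hr, Submodule.Quotient.mk_add, (Submodule.Quotient.mk_eq_zero P).mpr hy, zero_add,
      Submodule.Quotient.mk_smul]
    exact Submodule.smul_mem_smul (Ideal.pow_mem_pow ((mem_maximalIdeal _).mpr hπ.not_isUnit) m)
      Submodule.mem_top
  obtain ⟨b, hb⟩ := (Submodule.mem_span_range_iff_exists_fun B).mp hμP
  have hρmem : algebraMap M Ω ρ ∈ IntermediateField.adjoin L ({δ} : Set Ω) := by
    have h1 : μ = ∑ i, g (b i) * δ ^ (i : ℕ) := by
      have h2 := congrArg (fun z : integralClosure B D => (((z : D)) : Ω)) hb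
      simp only [Algebra.smul_def] at h2
      rw [show μ = (((μO : integralClosure B D) : D) : Ω) from rfl, ← h2]
      push_cast
      exact Finset.sum_congr rfl fun i _ => by rw [← hgD]
    have h3 : algebraMap M Ω ρ = μ * δ := by rw [hμ, inv_mul_cancel_right₀ hδ0]
    rw [h3, h1]
    refine mul_mem (sum_mem fun i _ => mul_mem ?_ (pow_mem (IntermediateField.mem_adjoin_simple_self L δ) _))
      (IntermediateField.mem_adjoin_simple_self L δ)
    exact IntermediateField.algebraMap_mem _ _
  haveI : Nonempty (Fin p) := ⟨⟨0, hp.pos⟩⟩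
  have htop := hli.span_eq_top_of_card_eq_finrank (by rw [Fintype.card_fin, hdeg])
  set R : IntermediateField L Ω := (IsScalarTower.toAlgHom L M Ω).fieldRange
  have hle : R ≤ IntermediateField.adjoin L ({δ} : Set Ω) := by
    rintro _ ⟨m, rfl⟩
    have hm : m ∈ Submodule.span L (Set.range fun i : Fin p => ρ ^ (i : ℕ)) := htop ▸ Submodule.mem_top
    obtain ⟨l, rfl⟩ := (Submodule.mem_span_range_iff_exists_fun L).mp hm
    rw [map_sum]
    refine sum_mem fun i _ => ?_
    rw [Algebra.smul_def, map_mul, map_pow]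
    refine mul_mem ?_ (pow_mem hρmem _)
    exact (IsScalarTower.toAlgHom L M Ω).commutes (l i) ▸ IntermediateField.algebraMap_mem _ _
  haveI : FiniteDimensional L (IntermediateField.adjoin L ({δ} : Set Ω)) :=
    IntermediateField.adjoin.finiteDimensional (hintL _ _ hδ)
  have hfR : Module.finrank L R = p := by
    rw [← hdeg]
    exact (AlgEquiv.ofInjectiveField (IsScalarTower.toAlgHom L M Ω)).toLinearEquiv.finrank_eq.symm
  have hfle : Module.finrank L (IntermediateField.adjoin L ({δ} : Set Ω)) ≤ p := by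
    rw [IntermediateField.adjoin.finrank (hintL _ _ hδ)]
    refine (natDegree_le_of_dvd (minpoly.dvd L δ (p := X ^ p - C (algebraMap B L π)) ?_)
      (X_pow_sub_C_ne_zero hp.pos _)).trans_eq natDegree_X_pow_sub_C
    simp [hδ, hgdef]
  have heq := IntermediateField.eq_of_le_of_finrank_le hle (hfR ▸ hfle)
  obtain ⟨m, hm⟩ : δ ∈ R := heq ▸ IntermediateField.mem_adjoin_simple_self L δ
  refine ⟨m, (algebraMap M Ω).injective ?_⟩
  rw [map_pow, ← IsScalarTower.algebraMap_apply L M Ω]
  exact (congrArg (· ^ p) hm).trans hδ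

/-- Either `π` is a `p`-th power upstairs, or the approximation stops. -/
theorem exists_best {p : ℕ} (hp : p.Prime) {B : Type u} [CommRing B] [IsDomain B]
    [IsDiscreteValuationRing B] [CharP B p] {π : B} (hπ : Irreducible π) (u : B)
    (hnot : ∃ n, ¬ ∃ (b : Fin p → B) (r : B), u = ∑ i : Fin p, π ^ (i : ℕ) * b i ^ p + π ^ n * r) :
    ∃ (N : ℕ) (b : Fin p → B) (r : B), u = ∑ i : Fin p, π ^ (i : ℕ) * b i ^ p + π ^ N * r ∧
      ∀ s : ResidueField B, s ^ p ≠ residue B r := by
  classical
  by_contra hall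
  push Not at hall
  obtain ⟨n, hn⟩ := hnot
  refine hn ?_
  haveI := Fact.mk hp
  induction n with
  | zero => exact ⟨fun _ => 0, u, by simp [zero_pow hp.pos.ne']⟩
  | succ n ih =>
    obtain ⟨b, r, hr⟩ : ∃ (b : Fin p → B) (r : B), u = ∑ i : Fin p, π ^ (i : ℕ) * b i ^ p + π ^ n * r := by
      by_contra h
      exact h (ih h)
    obtain ⟨s', hs⟩ := hall n b r hr
    obtain ⟨s, rfl⟩ := residue_surjective s'
    obtain ⟨r', hr'⟩ : π ∣ r - s ^ p := by
      rw [← Ideal.mem_span_singleton, ← Irreducible.maximalIdeal_eq hπ, ← residue_eq_zero_iff,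
        map_sub, map_pow, hs, sub_self]
    obtain ⟨q, i₀, hi₀, hnq⟩ : ∃ q i₀, i₀ < p ∧ n = i₀ + q * p :=
      ⟨n / p, n % p, Nat.mod_lt _ hp.pos, by rw [mul_comm, Nat.mod_add_div]⟩
    refine ⟨fun i => b i + (if i = ⟨i₀, hi₀⟩ then π ^ q * s else 0), r', ?_⟩
    simp only [add_pow_char, ite_pow, zero_pow hp.pos.ne', mul_add, mul_ite, mul_zero,
      Finset.sum_add_distrib, Finset.sum_ite_eq', Finset.mem_univ, if_true]
    rw [hr, mul_pow, ← pow_mul, ← mul_assoc (π ^ i₀), ← pow_add, ← hnq]
    linear_combination (π ^ n) * hr'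

end Groth.L19.EtTri
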