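import Groth.Agent.L05.TotRam.Main
import Mathlib.FieldTheory.PurelyInseparable.Basic
import Mathlib.RingTheory.PowerBasis
import Mathlib.FieldTheory.KummerPolynomial

/-! # Purely inseparable degree `p` steps of discrete valuation rings: basics -/

set_option autoImplicit false

universe u

open IsLocalRing

namespace Groth.L19.EtTri

/-- Combinations of low powers of `ρ` over a field whose values are `v ρ ^ (e ℤ)`. -/
theorem valuation_sum_max {L E : Type u} [Field L] [Field E] [Algebra L E] (W : ValuationSubring E)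
    (ρ : E) (hρ : ρ ≠ 0) (hρ1 : W.valuation ρ < 1) {e : ℕ}
    (hval : ∀ l : L, l ≠ 0 → ∃ k : ℤ, W.valuation (algebraMap L E l) = W.valuation ρ ^ ((e : ℤ) * k))
    (c : Fin e → L) :
    (∀ i : Fin e, c i ≠ 0 → (i : ℕ) ≠ 0 → W.valuation (algebraMap L E (c i) * ρ ^ (i : ℕ)) ≠ 1) ∧
      ((∃ i, c i ≠ 0) → ∃ j, c j ≠ 0 ∧
        W.valuation (∑ i, algebraMap L E (c i) * ρ ^ (i : ℕ)) =
          W.valuation (algebraMap L E (c j) * ρ ^ (j : ℕ)) ∧
        ∀ i, W.valuation (algebraMap L E (c i) * ρ ^ (i : ℕ)) ≤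
          W.valuation (algebraMap L E (c j) * ρ ^ (j : ℕ))) := by
  classical
  set v := W.valuation with hv
  have hv0 : v ρ ≠ 0 := (map_ne_zero v).mpr hρ
  have hvpos : 0 < v ρ := zero_lt_iff.mpr hv0
  have hterm : ∀ i, c i ≠ 0 →
      ∃ k : ℤ, v (algebraMap L E (c i) * ρ ^ (i : ℕ)) = v ρ ^ ((e : ℤ) * k + (i : ℤ)) := by
    intro i hi
    obtain ⟨k, hk⟩ := hval (c i) hi
    exact ⟨k, by rw [map_mul, map_pow, hk, zpow_add₀ hv0, zpow_natCast]⟩
  have hdist : ∀ (i : ℕ) (j : ℕ) (k k' : ℤ), i < e → j < e →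
      (e : ℤ) * k + (i : ℤ) = (e : ℤ) * k' + (j : ℤ) → i = j := by
    intro i j k k' hi hj h
    rcases lt_trichotomy (k - k') 0 with hlt | heq | hgt
    · nlinarith
    · obtain rfl : k = k' := by linarith
      omega
    · nlinarith
  refine ⟨fun i hi hi0 h1 => ?_, fun ⟨i₀, hi₀⟩ => ?_⟩
  · obtain ⟨k, hk⟩ := hterm i hi
    rw [hk, ← zpow_zero (v ρ)] at h1
    have h2 := zpow_right_injective₀ hvpos hρ1.ne h1
    exact hi0 (hdist i 0 k 0 i.2 (lt_of_le_of_lt (Nat.zero_le _) i.2) (by simpa using h2))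
  · obtain ⟨j, -, hmax⟩ := Finset.exists_max_image Finset.univ
      (fun i => v (algebraMap L E (c i) * ρ ^ (i : ℕ))) ⟨i₀, Finset.mem_univ _⟩
    have hj : c j ≠ 0 := fun hj => by
      have h := hmax i₀ (Finset.mem_univ _)
      simp only [hj, map_zero, zero_mul, le_zero_iff, map_eq_zero, mul_eq_zero] at h
      rcases h with h | h
      · exact hi₀ h
      · exact hρ (pow_eq_zero_iff'.mp h).1
    refine ⟨j, hj, v.map_sum_eq_of_lt (Finset.mem_univ j) fun i hi => ?_,
      fun i => hmax i (Finset.mem_univ _)⟩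
    rw [Finset.mem_sdiff, Finset.mem_singleton] at hi
    refine lt_of_le_of_ne (hmax i (Finset.mem_univ _)) fun h => hi.2 (Fin.ext ?_)
    by_cases hci : c i = 0
    · simp only [hci, map_zero, zero_mul] at h
      exact absurd h.symm ((map_ne_zero v).mpr (mul_ne_zero (fun h' => hj ((map_eq_zero _).mp h'))
        (pow_ne_zero _ hρ)))
    · obtain ⟨k, hk⟩ := hterm i hci
      obtain ⟨k', hk'⟩ := hterm j hj
      rw [hk, hk'] at h
      exact hdist i j k k' i.2 j.2 (zpow_right_injective₀ hvpos hρ1.ne h)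

/-- Low powers are independent. -/
theorem linearIndependent_low {L E : Type u} [Field L] [Field E] [Algebra L E] (W : ValuationSubring E)
    (ρ : E) (hρ : ρ ≠ 0) (hρ1 : W.valuation ρ < 1) {e : ℕ}
    (hval : ∀ l : L, l ≠ 0 → ∃ k : ℤ, W.valuation (algebraMap L E l) = W.valuation ρ ^ ((e : ℤ) * k)) :
    LinearIndependent L (fun i : Fin e => ρ ^ (i : ℕ)) := by
  rw [Fintype.linearIndependent_iff]
  intro c hc i
  by_contra hi
  obtain ⟨j, hj, hsum, -⟩ := (valuation_sum_max W ρ hρ hρ1 hval c).2 ⟨i, hi⟩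
  simp only [Algebra.smul_def] at hc
  rw [hc, map_zero] at hsum
  exact (map_ne_zero W.valuation).mpr
    (mul_ne_zero (fun h => hj ((map_eq_zero _).mp h)) (pow_ne_zero _ hρ)) hsum.symm

theorem valuation_units {R E : Type u} [CommRing R] [Field E] (W : ValuationSubring E) (g : R →+* E)
    (hg : ∀ r, g r ∈ W) (w : Rˣ) : W.valuation (g w) = 1 := by
  refine le_antisymm ((W.valuation_le_one_iff _).mpr (hg _)) ?_
  have h : W.valuation (g w) * W.valuation (g (↑w⁻¹ : R)) = 1 := by
    rw [← map_mul, ← map_mul, Units.mul_inv, map_one, map_one]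
  rw [← h]
  exact mul_le_of_le_one_right' ((W.valuation_le_one_iff _).mpr (hg _))

/-- Dominating valuation rings see the normalised valuation of a discrete valuation ring. -/
theorem dominates_facts {B L E : Type u} [CommRing B] [IsDomain B] [IsDiscreteValuationRing B]
    [Field L] [Algebra B L] [IsFractionRing B L] [Field E] [Algebra L E] (W : ValuationSubring E)
    (hW : EtRam.Dominates B ((algebraMap L E).comp (algebraMap B L)) W) {π : B} (hπ : Irreducible π) :
    algebraMap L E (algebraMap B L π) ≠ 0 ∧ W.valuation (algebraMap L E (algebraMap B L π)) < 1 ∧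
      (∀ l : L, l ≠ 0 → ∃ (k : ℤ) (w : Bˣ), l = algebraMap B L w * algebraMap B L π ^ k ∧
        W.valuation (algebraMap L E l) = W.valuation (algebraMap L E (algebraMap B L π)) ^ k) ∧
      ∀ l : L, W.valuation (algebraMap L E l) ≤ 1 → ∃ b : B, algebraMap B L b = l := by
  set g := (algebraMap L E).comp (algebraMap B L) with hg
  have hπL : algebraMap B L π ≠ 0 := by
    rw [Ne, map_eq_zero_iff _ (IsFractionRing.injective B L)]; exact hπ.ne_zero
  have h0 : g π ≠ 0 := fun h => hπL ((map_eq_zero (algebraMap L E)).mp h)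
  have h1 : W.valuation (g π) < 1 := hW.2 π ((mem_maximalIdeal _).mpr hπ.not_isUnit)
  have hval : ∀ l : L, l ≠ 0 → ∃ (k : ℤ) (w : Bˣ), l = algebraMap B L w * algebraMap B L π ^ k ∧
      W.valuation (algebraMap L E l) = W.valuation (g π) ^ k := by
    intro l hl
    obtain ⟨x, y, hy, rfl⟩ := IsFractionRing.div_surjective (A := B) l
    have hx0 : x ≠ 0 := fun h => hl (by rw [h, map_zero, zero_div])
    obtain ⟨n, ux, rfl⟩ := IsDiscreteValuationRing.eq_unit_mul_pow_irreducible hx0 hπ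
    obtain ⟨m, uy, rfl⟩ :=
      IsDiscreteValuationRing.eq_unit_mul_pow_irreducible (nonZeroDivisors.ne_zero hy) hπ
    have heq : algebraMap B L (↑ux * π ^ n) / algebraMap B L (↑uy * π ^ m) =
        algebraMap B L ((ux * uy⁻¹ : Bˣ) : B) * algebraMap B L π ^ ((n : ℤ) - m) := by
      have huy : algebraMap B L (↑uy⁻¹ : B) = (algebraMap B L (uy : B))⁻¹ := map_units_inv _ uy
      rw [zpow_sub₀ hπL, zpow_natCast, zpow_natCast, Units.val_mul, map_mul, map_mul, map_mul, huy,
        map_pow, map_pow]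
      field_simp
    refine ⟨(n : ℤ) - m, ux * uy⁻¹, heq, ?_⟩
    rw [heq, map_mul, map_mul, map_zpow₀, map_zpow₀]
    rw [show W.valuation (algebraMap L E (algebraMap B L ((ux * uy⁻¹ : Bˣ) : B))) = 1 from
      valuation_units W g hW.1 _, one_mul]
    rfl
  refine ⟨h0, h1, hval, fun l hl => ?_⟩
  by_cases hl0 : l = 0
  · exact ⟨0, by rw [map_zero, hl0]⟩
  obtain ⟨k, w, rfl, hk⟩ := hval l hl0
  rcases le_or_gt 0 k with hk0 | hk0
  · obtain ⟨n, rfl⟩ := Int.eq_ofNat_of_zero_le hk0
    exact ⟨(w : B) * π ^ n, by rw [map_mul, map_pow, zpow_natCast]⟩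
  · rw [hk] at hl
    exact absurd hl (not_le.mpr (one_lt_zpow_of_neg₀ (zero_lt_iff.mpr ((map_ne_zero _).mpr h0)) h1 hk0))

/-- A `p`-th root of a uniformiser generates. -/
theorem adjoin_eq_top {B C L M : Type u} [CommRing B] [IsDomain B] [IsDiscreteValuationRing B]
    [CommRing C] [IsDomain C] [IsDiscreteValuationRing C] [Algebra B C] [IsLocalHom (algebraMap B C)]
    [Field L] [Algebra B L] [IsFractionRing B L] [Field M] [Algebra C M] [IsFractionRing C M]
    [Algebra L M] [Algebra B M] [IsScalarTower B L M] [IsScalarTower B C M]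
    {p : ℕ} (hp : 0 < p) (hdeg : Module.finrank L M = p) {π : B} (hπ : Irreducible π) (c : M)
    (hc : c ^ p = algebraMap B M π) :
    LinearIndependent L (fun i : Fin p => c ^ (i : ℕ)) ∧
      ∃ c₀ : C, algebraMap C M c₀ = c ∧ c₀ ^ p = algebraMap B C π ∧ Algebra.adjoin B {c₀} = ⊤ := by
  classical
  obtain ⟨W, hW⟩ := Groth.L05.TotRam.exists_dominating C (algebraMap C M) (IsFractionRing.injective C M)
  have hWB : EtRam.Dominates B ((algebraMap L M).comp (algebraMap B L)) W := by
    refine ⟨fun b => ?_, fun b hb => ?_⟩ <;>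
      rw [RingHom.comp_apply, ← IsScalarTower.algebraMap_apply B L M, IsScalarTower.algebraMap_apply B C M]
    · exact hW.1 _
    · exact hW.2 _ (map_nonunit _ _ hb)
  obtain ⟨hπ0, hπ1, hval, hB⟩ := dominates_facts W hWB hπ
  rw [← IsScalarTower.algebraMap_apply B L M, ← hc] at hπ0 hπ1
  have hc0 : c ≠ 0 := fun h => hπ0 (by rw [h, zero_pow hp.ne'])
  have hc1 : W.valuation c < 1 := by
    by_contra h
    rw [map_pow] at hπ1
    exact absurd hπ1 (not_lt.mpr (one_le_pow₀ (not_lt.mp h)))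
  have hval' : ∀ l : L, l ≠ 0 → ∃ k : ℤ,
      W.valuation (algebraMap L M l) = W.valuation c ^ ((p : ℤ) * k) := fun l hl => by
    obtain ⟨k, w, -, hk⟩ := hval l hl
    refine ⟨k, ?_⟩
    rw [hk, ← IsScalarTower.algebraMap_apply B L M, ← hc, map_pow, zpow_mul, zpow_natCast]
  have hli := linearIndependent_low W c hc0 hc1 hval'
  obtain ⟨ϖ, hϖ⟩ := IsDiscreteValuationRing.exists_irreducible C
  have hWC : EtRam.Dominates C ((algebraMap M M).comp (algebraMap C M)) W := hW
  obtain ⟨-, -, -, hC⟩ := dominates_facts W hWC hϖ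
  obtain ⟨c₀, hc₀⟩ := hC c hc1.le
  refine ⟨hli, c₀, hc₀, IsFractionRing.injective C M ?_, ?_⟩
  · rw [map_pow, hc₀, hc, ← IsScalarTower.algebraMap_apply B C M]
  haveI : FiniteDimensional L M := Module.finite_of_finrank_pos (hdeg ▸ hp)
  haveI : Nonempty (Fin p) := ⟨⟨0, hp⟩⟩
  have htop := hli.span_eq_top_of_card_eq_finrank (by rw [Fintype.card_fin, hdeg])
  rw [eq_top_iff]
  rintro x -
  have hx : algebraMap C M x ∈ Submodule.span L (Set.range fun i : Fin p => c ^ (i : ℕ)) := by
    rw [htop]; exact Submodule.mem_top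
  obtain ⟨l, hl⟩ := (Submodule.mem_span_range_iff_exists_fun L).mp hx
  simp only [Algebra.smul_def] at hl
  have hmem : ∀ i, ∃ b : B, algebraMap B L b = l i := by
    intro i
    by_cases hi : l i = 0
    · exact ⟨0, by rw [map_zero, hi]⟩
    obtain ⟨j, -, hsum, hmax⟩ := (valuation_sum_max W c hc0 hc1 hval' l).2 ⟨i, hi⟩
    have hle : W.valuation (algebraMap L M (l i) * c ^ (i : ℕ)) ≤ 1 :=
      (hmax i).trans (by rw [← hsum, hl]; exact (W.valuation_le_one_iff _).mpr (hW.1 x))
    obtain ⟨k, hk⟩ := hval' (l i) hi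
    refine hB _ ?_
    rw [hk]
    rw [map_mul, hk, map_pow, ← zpow_natCast, ← zpow_add₀ ((map_ne_zero _).mpr hc0)] at hle
    by_contra hgt
    have hk0 : (p : ℤ) * k < 0 := by
      by_contra h
      exact hgt (zpow_le_one₀ (zero_lt_iff.mpr ((map_ne_zero _).mpr hc0)) hc1.le (not_lt.mp h))
    have hk1 : (p : ℤ) * k + (i : ℤ) < 0 := by
      have hi' := i.2
      have : k < 0 := by
        by_contra h
        nlinarith
      nlinarith
    exact absurd hle (not_le.mpr (one_lt_zpow_of_neg₀ (zero_lt_iff.mpr ((map_ne_zero _).mpr hc0)) hc1 hk1))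
  choose b hb using hmem
  have hxeq : x = ∑ i, algebraMap B C (b i) * c₀ ^ (i : ℕ) := by
    refine IsFractionRing.injective C M ?_
    rw [map_sum, ← hl]
    refine Finset.sum_congr rfl fun i _ => ?_
    rw [map_mul, map_pow, hc₀, ← hb i, ← IsScalarTower.algebraMap_apply B C M,
      ← IsScalarTower.algebraMap_apply B L M]
  rw [hxeq]
  exact sum_mem fun i _ => mul_mem (Subalgebra.algebraMap_mem _ _)
    (pow_mem (Algebra.self_mem_adjoin_singleton B c₀) _)

end Groth.L19.EtTri
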