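import Groth.Agent.L19.EtTri.Basic

/-! # The weak solution attached to a well chosen totally ramified extension -/

set_option autoImplicit false

universe u

open IsLocalRing

namespace Groth.L19.EtTri

open EtRam

theorem isWeakSolution {p : ℕ} (hp : p.Prime) {A B C K L M : Type u}
    [CommRing A] [IsDomain A] [CommRing B] [IsDomain B] [IsDiscreteValuationRing B]
    [CommRing C] [IsDomain C] [IsDiscreteValuationRing C]
    [Algebra A B] [Algebra B C] [IsLocalHom (algebraMap B C)]
    [Field K] [Field L] [Field M] [Algebra A K] [Algebra B L] [IsFractionRing B L]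
    [Algebra C M] [IsFractionRing C M] [Algebra K L] [Algebra L M] [Algebra K M] [IsScalarTower K L M]
    [Algebra A L] [IsScalarTower A K L] [IsScalarTower A B L] [Algebra B M] [IsScalarTower B L M]
    [IsScalarTower B C M] [CharP L p] (hdeg : Module.finrank L M = p)
    {π : A} (hπ : Irreducible (algebraMap A B π))
    (ρ : M) (u : Bˣ) (hρ : ρ ^ p = algebraMap L M (algebraMap B L (algebraMap A B π * (u : B))))
    (hli : LinearIndependent L (fun i : Fin p => ρ ^ (i : ℕ)))
    (N : ℕ) (b : Fin p → B) (r : B)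
    (hu : (u : B) = ∑ i : Fin p, algebraMap A B π ^ (i : ℕ) * b i ^ p + algebraMap A B π ^ N * r)
    (hr : ∀ s : ResidueField B, s ^ p ≠ residue B r)
    {K₁ : Type u} [Field K₁] [Algebra K K₁] [Algebra A K₁] [IsScalarTower A K K₁]
    (hdeg₁ : Module.finrank K K₁ = p) (t β : K₁) (hβ : β ∈ integralClosure A K₁)
    (htp : t ^ p = algebraMap A K₁ π + algebraMap A K₁ π ^ (N + 2) * β) :
    IsWeakSolution C K M K₁ := by
  classical
  haveI := Fact.mk hp
  intro E _ _ _ _ _ _ hgen W hW
  letI : Algebra L E := ((algebraMap M E).comp (algebraMap L M)).toAlgebra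
  haveI : IsScalarTower L M E := IsScalarTower.of_algebraMap_eq fun _ => rfl
  haveI : IsScalarTower K L E := IsScalarTower.of_algebraMap_eq fun x => by
    rw [IsScalarTower.algebraMap_apply L M E, ← IsScalarTower.algebraMap_apply K L M,
      ← IsScalarTower.algebraMap_apply K M E]
  haveI : CharP E p := charP_of_injective_algebraMap (algebraMap L E).injective p
  set g : B →+* E := (algebraMap L E).comp (algebraMap B L) with hgdef
  have hg : ∀ x, g x = algebraMap M E (algebraMap C M (algebraMap B C x)) := fun x => by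
    rw [← IsScalarTower.algebraMap_apply B C M, IsScalarTower.algebraMap_apply B L M]; rfl
  have hWB : Dominates B g W := by
    refine ⟨fun x => ?_, fun x hx => ?_⟩ <;> rw [hg]
    · exact hW.1 _
    · exact hW.2 _ (map_nonunit _ _ hx)
  obtain ⟨hπ0, hπ1, hval, hB⟩ := dominates_facts W hWB hπ
  have hgA : ∀ a : A, algebraMap K₁ E (algebraMap A K₁ a) = g (algebraMap A B a) := fun a => by
    show _ = algebraMap L E (algebraMap B L (algebraMap A B a))
    rw [← IsScalarTower.algebraMap_apply A B L, IsScalarTower.algebraMap_apply A K L,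
      ← IsScalarTower.algebraMap_apply K L E, IsScalarTower.algebraMap_apply A K K₁,
      ← IsScalarTower.algebraMap_apply K K₁ E]
  set P : E := g (algebraMap A B π) with hP
  change P ≠ 0 at hπ0
  change W.valuation P < 1 at hπ1
  -- the element `β` lies in `W`
  set β' := algebraMap K₁ E β with hβ'
  have hβW : β' ∈ W := by
    letI : Algebra A W := (RingHom.codRestrict ((algebraMap K₁ E).comp (algebraMap A K₁)) W.toSubring
      fun a => by rw [RingHom.comp_apply, hgA]; exact hWB.1 _).toAlgebra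
    letI : Algebra A E := ((algebraMap K₁ E).comp (algebraMap A K₁)).toAlgebra
    haveI : IsScalarTower A W E := IsScalarTower.of_algebraMap_eq fun _ => rfl
    haveI : IsScalarTower A K₁ E := IsScalarTower.of_algebraMap_eq fun _ => rfl
    have h1 : IsIntegral A β' := (hβ : IsIntegral A β).algebraMap
    obtain ⟨y, hy⟩ := IsIntegrallyClosedIn.isIntegral_iff.mp (h1.tower_top (A := W))
    exact hy ▸ y.2
  set ε : E := 1 + P ^ (N + 1) * β' with hε
  set τ : E := algebraMap K₁ E t with hτdef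
  have hτp : τ ^ p = P * ε := by
    rw [hτdef, ← map_pow, htp, map_add, map_mul, map_pow, hgA, hε, ← hP, ← hβ']
    ring
  have hsmall : ∀ x : E, x ∈ W → W.valuation (P * x) < 1 := fun x hx => by
    rw [map_mul]
    exact lt_of_le_of_lt (mul_le_of_le_one_right' ((W.valuation_le_one_iff _).mpr hx)) hπ1
  have hPW : P ∈ W := hWB.1 _
  have hε1 : W.valuation ε = 1 := by
    refine W.valuation.map_one_add_of_lt ?_
    rw [pow_succ', mul_assoc]
    exact hsmall _ (mul_mem (pow_mem hPW N) hβW)
  have hε0 : ε ≠ 0 := fun h => by rw [h, map_zero] at hε1; exact zero_ne_one hε1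
  have hτv : W.valuation τ ^ p = W.valuation P := by rw [← map_pow, hτp, map_mul, hε1, mul_one]
  have hτ0 : τ ≠ 0 := fun h => hπ0 ((map_eq_zero W.valuation).mp (by
    rw [← hτv, h, map_zero, zero_pow hp.pos.ne']))
  have hτ1 : W.valuation τ < 1 := by
    by_contra h
    exact absurd (hτv ▸ hπ1) (not_lt.mpr (one_le_pow₀ (not_lt.mp h)))
  have hv0 : W.valuation τ ≠ 0 := (map_ne_zero _).mpr hτ0
  have hτW : τ ∈ W := (W.valuation_le_one_iff _).mp hτ1.le
  have hvalL : ∀ l : L, l ≠ 0 → ∃ k : ℤ,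
      W.valuation (algebraMap L E l) = W.valuation τ ^ ((p : ℤ) * k) := fun l hl => by
    obtain ⟨k, w, -, hk⟩ := hval l hl
    exact ⟨k, by rw [hk, zpow_mul, zpow_natCast, hτv]; rfl⟩
  -- `t` generates `K₁`
  have hvalK : ∀ l : K, l ≠ 0 → ∃ k : ℤ,
      W.valuation (algebraMap K E l) = W.valuation τ ^ ((p : ℤ) * k) := fun l hl => by
    rw [IsScalarTower.algebraMap_apply K L E]
    exact hvalL _ (fun h => hl ((map_eq_zero (algebraMap K L)).mp h))
  have hliK : LinearIndependent K (fun i : Fin p => t ^ (i : ℕ)) := by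
    refine LinearIndependent.of_comp (IsScalarTower.toAlgHom K K₁ E).toLinearMap ?_
    convert linearIndependent_low W τ hτ0 hτ1 hvalK using 1
    ext i
    exact map_pow (algebraMap K₁ E) t _
  haveI : FiniteDimensional K K₁ := Module.finite_of_finrank_pos (hdeg₁ ▸ hp.pos)
  haveI : Nonempty (Fin p) := ⟨⟨0, hp.pos⟩⟩
  have htopK := hliK.span_eq_top_of_card_eq_finrank (by rw [Fintype.card_fin, hdeg₁])
  -- `S = L(K₁)`
  set S : Subalgebra L E := Algebra.adjoin L (Set.range (algebraMap K₁ E)) with hS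
  have hKS : ∀ y : K₁, algebraMap K₁ E y ∈ S := fun y => Algebra.subset_adjoin ⟨y, rfl⟩
  have hSspan : ∀ x ∈ S, ∃ c : Fin p → L, ∑ i, algebraMap L E (c i) * τ ^ (i : ℕ) = x := by
    intro x hx
    suffices h : x ∈ Submodule.span L (Set.range fun i : Fin p => τ ^ (i : ℕ)) by
      obtain ⟨c, hc⟩ := (Submodule.mem_span_range_iff_exists_fun L).mp h
      exact ⟨c, by rw [← hc]; simp [Algebra.smul_def]⟩
    replace hx : x ∈ Subalgebra.toSubmodule S := hx
    rw [hS, Algebra.adjoin_eq_span, show (Submonoid.closure (Set.range (algebraMap K₁ E)) : Set E) =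
      Set.range (algebraMap K₁ E) from le_antisymm (fun z hz => (Submonoid.closure_le.mpr (fun _ h => h) :
        Submonoid.closure (Set.range (algebraMap K₁ E)) ≤ MonoidHom.mrange (algebraMap K₁ E).toMonoidHom) hz)
        Submonoid.subset_closure] at hx
    refine Submodule.span_le.mpr ?_ hx
    rintro _ ⟨y, rfl⟩
    obtain ⟨c, hc⟩ := (Submodule.mem_span_range_iff_exists_fun K).mp
      (htopK ▸ Submodule.mem_top : y ∈ Submodule.span K (Set.range fun i : Fin p => t ^ (i : ℕ)))
    rw [← hc, map_sum]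
    refine Submodule.sum_mem _ fun i _ => ?_
    rw [Algebra.smul_def, map_mul, map_pow, ← IsScalarTower.algebraMap_apply K K₁ E,
      IsScalarTower.algebraMap_apply K L E, ← Algebra.smul_def]
    exact Submodule.smul_mem _ _ (Submodule.subset_span ⟨i, rfl⟩)
  have hSval : ∀ x ∈ S, x ≠ 0 → ∃ m : ℤ, W.valuation x = W.valuation τ ^ m := by
    intro x hx hx0
    obtain ⟨c, rfl⟩ := hSspan x hx
    have hc : ∃ i, c i ≠ 0 := by
      by_contra h; push Not at h; exact hx0 (by simp [h])
    exact Groth.L05.TotRam.valuation_sum_eq W τ hτ0 hτ1 hvalL c hc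
  have hSres : ∀ x ∈ S, W.valuation x ≤ 1 → ∃ b₀ : B, W.valuation (x - g b₀) < 1 := by
    intro x hx hxle
    obtain ⟨c, rfl⟩ := hSspan x hx
    obtain ⟨h1, h2⟩ := valuation_sum_max W τ hτ0 hτ1 hvalL c
    have hall : ∀ i, W.valuation (algebraMap L E (c i) * τ ^ (i : ℕ)) ≤ 1 := by
      intro i
      by_cases hc : ∃ i, c i ≠ 0
      · obtain ⟨j, -, hsum, hmax⟩ := h2 hc
        exact (hmax i).trans (hsum ▸ hxle)
      · push Not at hc; simp [hc]
    set i₀ : Fin p := ⟨0, hp.pos⟩
    obtain ⟨b₀, hb₀⟩ := hB (c i₀) (by simpa [i₀] using hall i₀)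
    refine ⟨b₀, ?_⟩
    have hb₀' : g b₀ = algebraMap L E (c i₀) * τ ^ (i₀ : ℕ) := by simp [i₀, hgdef, hb₀]
    rw [hb₀', ← Finset.sum_erase_eq_sub (Finset.mem_univ i₀)]
    refine W.valuation.map_sum_lt one_ne_zero fun i hi => ?_
    by_cases hc : c i = 0
    · simp [hc]
    exact lt_of_le_of_ne (hall i) (h1 i hc fun h => (Finset.ne_of_mem_erase hi) (Fin.ext h))
  have hgS : ∀ x, g x ∈ S := fun x => S.algebraMap_mem _
  have hτS : τ ∈ S := hKS t
  have hτiS : τ⁻¹ ∈ S := by rw [hτdef, ← map_inv₀]; exact hKS _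
  -- the element `z`
  set ρ' := algebraMap M E ρ with hρ'
  have hρp : ρ' ^ p = g (algebraMap A B π * (u : B)) := by
    rw [hρ', ← map_pow, hρ]; rfl
  set y : E := ∑ i : Fin p, τ ^ (i : ℕ) * g (b i) with hy
  set z : E := (ρ' / τ - y) / τ ^ N with hz
  have hzp : z ^ p = (g (algebraMap A B π * (u : B)) * τ⁻¹ ^ p - y ^ p) * τ⁻¹ ^ (N * p) := by
    rw [hz, div_pow, sub_pow_char, div_pow, hρp, ← pow_mul, div_eq_mul_inv, div_eq_mul_inv, inv_pow, inv_pow]
  have hyS : y ∈ S := sum_mem fun i _ => mul_mem (pow_mem hτS _) (hgS _)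
  have hzpS : z ^ p ∈ S := by
    rw [hzp]
    exact mul_mem (sub_mem (mul_mem (hgS _) (pow_mem hτiS _)) (pow_mem hyS _)) (pow_mem hτiS _)
  have hεk : ∀ k : ℕ, ∃ γ ∈ W, ε ^ k = 1 + P ^ (N + 1) * γ := by
    intro k
    induction k with
    | zero => exact ⟨0, zero_mem _, by simp⟩
    | succ k ih =>
      obtain ⟨γ, hγ, h⟩ := ih
      refine ⟨γ + β' + P ^ (N + 1) * γ * β', add_mem (add_mem hγ hβW) (mul_mem (mul_mem (pow_mem hPW _) hγ) hβW), ?_⟩
      rw [pow_succ, h, hε]; ring
  choose γ hγW hγ using hεk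
  set s : E := -∑ i : Fin p, P ^ (i : ℕ) * g (b i) ^ p * γ ((i : ℕ) + 1) with hs
  have hsW : s ∈ W := neg_mem (sum_mem fun i _ => mul_mem (mul_mem (pow_mem hPW _)
    (pow_mem (hWB.1 _) _)) (hγW _))
  have hkey : z ^ p * ε ^ (N + 1) = g r + P * s := by
    have h1 : (ρ' / τ - y) ^ p * ε = P ^ N * g r + P ^ (N + 1) * s := by
      rw [sub_pow_char, div_pow, hρp, hτp, hy, sum_pow_char, sub_mul,
        show g (algebraMap A B π * (u : B)) / (P * ε) * ε = g (u : B) by
          rw [map_mul, ← hP]; field_simp]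
      have hterm : (∑ i : Fin p, (τ ^ (i : ℕ) * g (b i)) ^ p) * ε =
          (∑ i : Fin p, P ^ (i : ℕ) * g (b i) ^ p) - P ^ (N + 1) * s := by
        rw [hs, mul_neg, sub_neg_eq_add, Finset.mul_sum, ← Finset.sum_add_distrib, Finset.sum_mul]
        refine Finset.sum_congr rfl fun i _ => ?_
        rw [mul_pow, ← pow_mul, mul_comm (i : ℕ), pow_mul, hτp, mul_pow]
        linear_combination (P ^ (i : ℕ) * g (b i) ^ p) * hγ ((i : ℕ) + 1)
      rw [hterm, hu, map_add, map_sum, map_mul, map_pow, ← hP]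
      simp only [map_mul, map_pow, ← hP]
      ring
    have h2 : (τ ^ N) ^ p = P ^ N * ε ^ N := by rw [← pow_mul, mul_comm, pow_mul, hτp, mul_pow]
    rw [hz, div_pow, h2, div_mul_eq_mul_div, div_eq_iff (mul_ne_zero (pow_ne_zero _ hπ0) (pow_ne_zero _ hε0)),
      pow_succ', ← mul_assoc, h1]
    ring
  have hzW : z ∈ W := by
    rw [← W.valuation_le_one_iff]
    have h : W.valuation z ^ p ≤ 1 := by
      have h' : g r + P * s ∈ W := add_mem (hWB.1 _) (mul_mem hPW hsW)
      rw [← hkey, ← W.valuation_le_one_iff, map_mul, map_pow, map_pow, hε1, one_pow, mul_one] at h'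
      exact h'
    by_contra hlt
    exact absurd h (not_le.mpr (one_lt_pow₀ (not_le.mp hlt) hp.pos.ne'))
  -- residues
  let ψ : B →+* W := RingHom.codRestrict g W.toSubring hWB.1
  haveI : IsLocalHom ψ := ⟨fun x hx => by
    by_contra hxu
    have h := (ValuationSubring.valuation_eq_one_iff W (ψ x)).mp hx
    exact absurd h (hWB.2 x ((mem_maximalIdeal _).mpr hxu)).ne⟩
  letI : Algebra (ResidueField B) (ResidueField W) := (ResidueField.map ψ).toAlgebra
  set zb : ResidueField W := residue W ⟨z, hzW⟩ with hzb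
  have hPm : residue W ⟨P, hPW⟩ = 0 :=
    (residue_eq_zero_iff _).mpr ((ValuationSubring.valuation_lt_one_iff W _).mpr hπ1)
  have hεW : ε ∈ W := (W.valuation_le_one_iff _).mp hε1.le
  have hεres : residue W ⟨ε, hεW⟩ = 1 := by
    rw [show (⟨ε, hεW⟩ : W) = 1 + ⟨P, hPW⟩ * (⟨P, hPW⟩ ^ N * ⟨β', hβW⟩) from Subtype.ext (by
      push_cast; rw [hε]; ring), map_add, map_mul, hPm, zero_mul, add_zero, map_one]
  have hzbp : zb ^ p = algebraMap (ResidueField B) (ResidueField W) (residue B r) := by
    have h : (⟨z, hzW⟩ : W) ^ p * ⟨ε, hεW⟩ ^ (N + 1) = ψ r + ⟨P, hPW⟩ * ⟨s, hsW⟩ :=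
      Subtype.ext (by push_cast; exact hkey)
    have h' := congrArg (residue W) h
    rw [map_mul, map_pow, map_pow, hεres, one_pow, mul_one, map_add, map_mul, hPm, zero_mul, add_zero] at h'
    rw [hzb, h']
    rfl
  have hirr : Irreducible (Polynomial.X ^ p - Polynomial.C (residue B r)) := X_pow_sub_C_irreducible_of_prime hp hr
  have hmin : minpoly (ResidueField B) zb = Polynomial.X ^ p - Polynomial.C (residue B r) :=
    (minpoly.eq_of_irreducible_of_monic hirr (by simp [hzbp]) (Polynomial.monic_X_pow_sub_C _ hp.pos.ne')).symm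
  have hliz : LinearIndependent (ResidueField B) (fun j : Fin p => zb ^ (j : ℕ)) := by
    have h := linearIndependent_pow (K := ResidueField B) zb
    have hd : (minpoly (ResidueField B) zb).natDegree = p := by rw [hmin, Polynomial.natDegree_X_pow_sub_C]
    exact h.comp (Fin.cast hd.symm) (Fin.cast_injective _)
  -- every element is a polynomial in `z` over `S`
  let T : Subalgebra S E := Algebra.adjoin S {z}
  have hST : ∀ x ∈ S, x ∈ T := fun x hx => T.algebraMap_mem ⟨x, hx⟩
  have hρT : ρ' ∈ T := by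
    have h : ρ' = τ * (y + τ ^ N * z) := by rw [hz]; field_simp; ring
    rw [h]
    exact mul_mem (hST _ hτS) (add_mem (hST _ hyS) (mul_mem (hST _ (pow_mem hτS _)) (Algebra.self_mem_adjoin_singleton _ _)))
  haveI : FiniteDimensional L M := Module.finite_of_finrank_pos (hdeg ▸ hp.pos)
  have htopM := hli.span_eq_top_of_card_eq_finrank (by rw [Fintype.card_fin, hdeg])
  have hMT : ∀ m : M, algebraMap M E m ∈ T := fun m => by
    obtain ⟨l, rfl⟩ := (Submodule.mem_span_range_iff_exists_fun L).mp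
      (htopM ▸ Submodule.mem_top : m ∈ Submodule.span L (Set.range fun i : Fin p => ρ ^ (i : ℕ)))
    rw [map_sum]
    refine sum_mem fun i _ => ?_
    rw [Algebra.smul_def, map_mul, map_pow, ← IsScalarTower.algebraMap_apply L M E]
    exact mul_mem (hST _ (S.algebraMap_mem _)) (pow_mem hρT _)
  have hallT : ∀ x : E, x ∈ T := fun x => by
    have hx : x ∈ Algebra.adjoin M (Set.range (algebraMap K₁ E)) := hgen ▸ Algebra.mem_top
    induction hx using Algebra.adjoin_induction with
    | mem z hz => obtain ⟨w, rfl⟩ := hz; exact hST _ (hKS w)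
    | algebraMap m => exact hMT m
    | add _ _ _ _ h1 h2 => exact add_mem h1 h2
    | mul _ _ _ _ h1 h2 => exact mul_mem h1 h2
  have hrepr : ∀ x : E, ∃ c : Fin p → S, ∑ j, (c j : E) * z ^ (j : ℕ) = x := fun x => by
    have hx := hallT x
    rw [show T = Algebra.adjoin S {z} from rfl, Algebra.adjoin_singleton_eq_range_aeval] at hx
    obtain ⟨Q, rfl⟩ := hx
    have hm : (Polynomial.X ^ p - Polynomial.C (⟨z ^ p, hzpS⟩ : S)).Monic := Polynomial.monic_X_pow_sub_C _ hp.pos.ne'
    set R := Q %ₘ (Polynomial.X ^ p - Polynomial.C (⟨z ^ p, hzpS⟩ : S))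
    have hroot : Polynomial.aeval z (Polynomial.X ^ p - Polynomial.C (⟨z ^ p, hzpS⟩ : S)) = 0 := by
      simp only [map_sub, map_pow, Polynomial.aeval_X, Polynomial.aeval_C]
      exact sub_self (z ^ p)
    have hd : R.natDegree < p := by
      have := Polynomial.natDegree_modByMonic_lt Q hm (fun h => by
        have := congrArg Polynomial.natDegree h
        rw [Polynomial.natDegree_X_pow_sub_C, Polynomial.natDegree_one] at this
        exact hp.pos.ne' this)
      rwa [Polynomial.natDegree_X_pow_sub_C] at this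
    refine ⟨fun j => R.coeff j, ?_⟩
    show _ = Polynomial.aeval z Q
    rw [← Polynomial.aeval_modByMonic_eq_self_of_root hroot, Polynomial.aeval_eq_sum_range' hd z,
      Fin.sum_univ_eq_sum_range (fun j => (R.coeff j : E) * z ^ j) p]
    exact Finset.sum_congr rfl fun j _ => rfl
  have hallval : ∀ x : E, x ≠ 0 → ∃ m : ℤ, W.valuation x = W.valuation τ ^ m := by
    intro x hx
    obtain ⟨c, rfl⟩ := hrepr x
    obtain ⟨i₁, hi₁⟩ : ∃ j, (c j : E) ≠ 0 := by
      by_contra h; push Not at h; exact hx (by simp [h])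
    obtain ⟨j, -, hmax⟩ := Finset.exists_max_image Finset.univ (fun j => W.valuation (c j : E)) ⟨i₁, Finset.mem_univ _⟩
    have hj : (c j : E) ≠ 0 := fun h => by
      have := hmax i₁ (Finset.mem_univ _)
      simp only [h, map_zero, le_zero_iff, map_eq_zero] at this
      exact hi₁ this
    obtain ⟨m, hm⟩ := hSval _ (c j).2 hj
    refine ⟨m, ?_⟩
    have hτm : τ ^ (-m) ∈ S := by rw [hτdef, ← map_zpow₀]; exact hKS _
    let a : Fin p → E := fun i => τ ^ (-m) * (c i : E)
    have hav : ∀ i, W.valuation (a i) ≤ 1 := fun i => by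
      simp only [a, map_mul, map_zpow₀]
      refine le_trans (mul_le_mul_right (hmax i (Finset.mem_univ _)) _) ?_
      rw [hm, zpow_neg, inv_mul_cancel₀ (zpow_ne_zero _ hv0)]
    have haj : W.valuation (a j) = 1 := by
      simp only [a, map_mul, map_zpow₀]
      rw [hm, zpow_neg, inv_mul_cancel₀ (zpow_ne_zero _ hv0)]
    choose b₀ hb₀ using fun i => hSres (a i) (mul_mem hτm (c i).2) (hav i)
    have haW : ∀ i, a i ∈ W := fun i => (W.valuation_le_one_iff _).mp (hav i)
    have hares : ∀ i, residue W ⟨a i, haW i⟩ = algebraMap (ResidueField B) (ResidueField W) (residue B (b₀ i)) := by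
      intro i
      rw [show algebraMap (ResidueField B) (ResidueField W) (residue B (b₀ i)) = residue W (ψ (b₀ i)) from rfl,
        ← sub_eq_zero, ← map_sub, residue_eq_zero_iff, ValuationSubring.valuation_lt_one_iff]
      exact hb₀ i
    set Sg : W := ∑ i : Fin p, ⟨a i, haW i⟩ * ⟨z, hzW⟩ ^ (i : ℕ) with hSg
    have hunit : IsUnit Sg := by
      by_contra hnu
      have h0 : residue W Sg = 0 := (residue_eq_zero_iff _).mpr ((mem_maximalIdeal _).mpr hnu)
      rw [hSg, map_sum] at h0
      simp only [map_mul, map_pow, hares, ← Algebra.smul_def, ← hzb] at h0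
      have := Fintype.linearIndependent_iff.mp hliz _ h0 j
      have hbj := hb₀ j
      rw [residue_eq_zero_iff] at this
      have hg1 : W.valuation (g (b₀ j)) < 1 := hWB.2 _ this
      have h := W.valuation.map_add_lt hbj hg1
      rw [sub_add_cancel, haj] at h
      exact lt_irrefl _ h
    have hSgv := (W.valuation_eq_one_iff Sg).mp hunit
    have hxeq : ∑ i, (c i : E) * z ^ (i : ℕ) = τ ^ m * (Sg : E) := by
      rw [hSg]; push_cast; rw [Finset.mul_sum]
      refine Finset.sum_congr rfl fun i _ => ?_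
      simp only [a]
      rw [← mul_assoc (τ ^ m), ← mul_assoc (τ ^ m), ← zpow_add₀ hτ0, add_neg_cancel, zpow_zero, one_mul]
    rw [hxeq, map_mul, map_zpow₀, hSgv, mul_one]
  -- conclusion
  letI : Algebra (W.comap (algebraMap K₁ E)) W := (inclOfComap W (algebraMap K₁ E)).toAlgebra
  show IsWeaklyUnramified (W.comap (algebraMap K₁ E)) W
  refine le_antisymm (((local_hom_TFAE _).out 0 2).mp (EtRam.isLocalHom_inclOfComap W _)) fun x hx => ?_
  have hx1 := (ValuationSubring.valuation_lt_one_iff W x).mp hx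
  by_cases hx0 : (x : E) = 0
  · rw [show x = 0 from Subtype.ext hx0]; exact zero_mem _
  obtain ⟨m, hm⟩ := hallval _ hx0
  have hm1 : 1 ≤ m := by
    by_contra h
    rw [hm] at hx1
    exact absurd hx1 (not_lt.mpr (one_le_zpow_of_nonpos₀ (zero_lt_iff.mpr hv0) hτ1.le (by omega)))
  have hqW : (x : E) / τ ∈ W := by
    rw [← W.valuation_le_one_iff, map_div₀, hm, div_eq_mul_inv, ← zpow_neg_one, ← zpow_add₀ hv0]
    exact zpow_le_one₀ (zero_lt_iff.mpr hv0) hτ1.le (by omega)
  let tV : W.comap (algebraMap K₁ E) := ⟨t, hτW⟩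
  have htV : tV ∈ maximalIdeal (W.comap (algebraMap K₁ E)) := (mem_maximalIdeal _).mpr fun h =>
    absurd ((W.valuation_eq_one_iff (inclOfComap W _ tV)).mp (h.map (inclOfComap W _))) hτ1.ne
  have hxq : x = algebraMap (W.comap (algebraMap K₁ E)) W tV * ⟨_, hqW⟩ :=
    Subtype.ext (by show (x : E) = τ * ((x : E) / τ); field_simp)
  rw [hxq]
  exact Ideal.mul_mem_right _ _ (Ideal.mem_map_of_mem _ htV)

end Groth.L19.EtTri
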